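import Groth.Agent.Misc1.NoetherDiff
import Mathlib.FieldTheory.SeparableDegree
import Mathlib.FieldTheory.IsAlgClosed.AlgebraicClosure
import Mathlib.FieldTheory.PurelyInseparable.PerfectClosure
import Mathlib.RingTheory.Trace.Basic
import Mathlib.RingTheory.Discriminant
import Mathlib.RingTheory.Ideal.GoingUp
import Mathlib.Algebra.CharP.Reduced

/-!
# Integral closures with as many geometric points as the degree are etale

`A` is a normal domain, `L` a finite extension of its fraction field of degree `n`, `B` the integral
closure.  If `n` distinct maps from `B` to a field lie over the same map from `A`, then `B` becomes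
finite etale after inverting one element not killed by that map.
-/

set_option autoImplicit false
set_option linter.style.haveILetI false
set_option linter.unusedSectionVars false

universe u

open Polynomial TensorProduct

namespace Groth.NormCard

variable (A K : Type u) [CommRing A] [IsDomain A] [IsIntegrallyClosed A] [Field K] [Algebra A K]
  [IsFractionRing A K] {L : Type u} [Field L] [Algebra K L] [Algebra A L] [IsScalarTower A K L]
  [FiniteDimensional K L] {Ω : Type u} [Field Ω] [IsAlgClosed Ω] [Algebra A Ω]

/-- The restriction of an embedding to the integral closures. -/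
noncomputable def res (σ : L →ₐ[K] AlgebraicClosure K) :
    integralClosure A L →ₐ[A] integralClosure A (AlgebraicClosure K) :=
  ((σ.restrictScalars A).comp (integralClosure A L).val).codRestrict _
    fun x => x.2.map (σ.restrictScalars A)

theorem coe_res (σ : L →ₐ[K] AlgebraicClosure K) (b : integralClosure A L) :
    ((res A K σ b : integralClosure A (AlgebraicClosure K)) : AlgebraicClosure K) = σ b :=
  rfl

/-- The algebraic closure maps to every algebraically closed field under the base. -/
theorem exists_reduction : Nonempty (integralClosure A (AlgebraicClosure K) →ₐ[A] Ω) := by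
  let Ab := integralClosure A (AlgebraicClosure K)
  let p := RingHom.ker (algebraMap A Ω)
  haveI : p.IsPrime := RingHom.ker_isPrime _
  have hinj : Function.Injective (algebraMap A Ab) := fun x y h => by
    have h' := congrArg Subtype.val h
    simp only [Subalgebra.coe_algebraMap, IsScalarTower.algebraMap_apply A K (AlgebraicClosure K)] at h'
    exact IsFractionRing.injective A K ((algebraMap K (AlgebraicClosure K)).injective h')
  obtain ⟨P, hP, hPp⟩ := Ideal.exists_ideal_over_prime_of_isIntegral_of_isDomain (S := Ab) p
    (by rw [(RingHom.injective_iff_ker_eq_bot _).1 hinj]; exact bot_le)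
  have hcomap : p = P.comap (algebraMap A Ab) := hPp.symm
  haveI : P.LiesOver p := ⟨hcomap⟩
  let g : A ⧸ p →+* Ω := Ideal.Quotient.lift p (algebraMap A Ω) fun a ha => ha
  letI : Algebra (A ⧸ p) Ω := g.toAlgebra
  have hg : Function.Injective g := RingHom.lift_injective_of_ker_le_ideal _ _ le_rfl
  haveI : Module.IsTorsionFree (A ⧸ p) Ω := Module.isTorsionFree_iff_algebraMap_injective.2 hg
  have hinj' : Function.Injective (algebraMap (A ⧸ p) (Ab ⧸ P)) := by
    rw [injective_iff_map_eq_zero]
    intro a ha
    obtain ⟨a, rfl⟩ := Ideal.Quotient.mk_surjective a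
    rw [Ideal.Quotient.algebraMap_mk_of_liesOver, Ideal.Quotient.eq_zero_iff_mem] at ha
    rw [Ideal.Quotient.eq_zero_iff_mem, hcomap]
    exact ha
  haveI : Module.IsTorsionFree (A ⧸ p) (Ab ⧸ P) := Module.isTorsionFree_iff_algebraMap_injective.2 hinj'
  haveI : Algebra.IsIntegral A Ab := ⟨fun x =>
    (isIntegral_algHom_iff Ab.val Subtype.val_injective).1 x.2⟩
  haveI : IsScalarTower A (A ⧸ p) Ω := IsScalarTower.of_algebraMap_eq fun _ => rfl
  let l : Ab ⧸ P →ₐ[A ⧸ p] Ω := IsAlgClosed.lift
  exact ⟨(l.restrictScalars A).comp (Ideal.Quotient.mkₐ A P)⟩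

variable (χ : integralClosure A L →ₐ[A] Ω) (r : integralClosure A (AlgebraicClosure K) →ₐ[A] Ω)

/-- The element `∑ b i T ^ i` under a ring homomorphism. -/
noncomputable def gen {R : Type*} [CommRing R] {m : ℕ} (b : Fin m → R) : R[X] :=
  ∑ i : Fin m, monomial (i : ℕ) (b i)

theorem map_gen {R S : Type*} [CommRing R] [CommRing S] (f : R →+* S) {m : ℕ} (b : Fin m → R) :
    (gen b).map f = gen fun i => f (b i) := by
  simp [gen, Polynomial.map_sum]

theorem gen_injective {R : Type*} [CommRing R] {m : ℕ} {b b' : Fin m → R} (h : gen b = gen b') :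
    b = b' := by
  funext i
  have h' := congrArg (fun q => q.coeff (i : ℕ)) h
  simpa [gen, coeff_monomial, Fin.val_inj] using h'

/-- The product of `X - ∑ σ (b i) T ^ i` over the embeddings. -/
noncomputable def prodPoly {m : ℕ} (b : Fin m → integralClosure A L) :
    (integralClosure A (AlgebraicClosure K))[X][X] :=
  ∏ σ : L →ₐ[K] AlgebraicClosure K, (X - C (gen fun i => res A K σ (b i)))

theorem prodPoly_map {S : Type*} [CommRing S] (f : integralClosure A (AlgebraicClosure K) →+* S) {m : ℕ}
    (b : Fin m → integralClosure A L) :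
    (prodPoly A K b).map (mapRingHom f) =
      ∏ σ : L →ₐ[K] AlgebraicClosure K, (X - C (gen fun i => f (res A K σ (b i)))) := by
  simp [prodPoly, Polynomial.map_prod, map_gen]

/-- A suitable power of the coefficients of the product lies in the base. -/
theorem exists_pow_mem {m : ℕ} (b : Fin m → integralClosure A L) :
    ∃ e : ℕ, ∀ i j : ℕ, ((prodPoly A K b).coeff i).coeff j ^ ringExpChar K ^ e ∈
      Set.range (algebraMap A (integralClosure A (AlgebraicClosure K))) := by
  classical
  let q := ringExpChar K
  let Ab := integralClosure A (AlgebraicClosure K)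
  have hfix : ∀ (g : AlgebraicClosure K ≃ₐ[K] AlgebraicClosure K) (i j : ℕ),
      g (((prodPoly A K b).coeff i).coeff j : Ab) = (((prodPoly A K b).coeff i).coeff j : Ab) := by
    intro g i j
    let g' : Ab →ₐ[A] Ab := ((g.toAlgHom.restrictScalars A).comp Ab.val).codRestrict _
      fun x => x.2.map (g.toAlgHom.restrictScalars A)
    have h : (prodPoly A K b).map (mapRingHom g'.toRingHom) = prodPoly A K b := by
      rw [prodPoly_map, prodPoly]
      refine Fintype.prod_bijective (fun σ => g.toAlgHom.comp σ)
        ⟨fun σ τ h => AlgHom.ext fun x => g.injective (DFunLike.congr_fun h x),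
          fun σ => ⟨g.symm.toAlgHom.comp σ, AlgHom.ext fun x => g.apply_symm_apply _⟩⟩ _ _ fun σ => ?_
      rfl
    have h' := congrArg (fun Q => ((Q.coeff i).coeff j : AlgebraicClosure K)) h
    simp only [coeff_map, coe_mapRingHom] at h'
    exact h'
  have hpow : ∀ i j : ℕ, ∃ e : ℕ, ((prodPoly A K b).coeff i).coeff j ^ q ^ e ∈
      Set.range (algebraMap A Ab) := by
    intro i j
    set c := ((prodPoly A K b).coeff i).coeff j
    have hsep : (minpoly K (c : AlgebraicClosure K)).natSepDegree = 1 := by
      rw [natSepDegree_eq_of_splits _ (IsAlgClosed.splits _) (E := AlgebraicClosure K)]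
      refine Finset.card_eq_one.2 ⟨(c : AlgebraicClosure K), Finset.ext fun z => ?_⟩
      rw [Multiset.mem_toFinset, mem_aroots, Finset.mem_singleton]
      constructor
      · rintro ⟨-, hz⟩
        obtain ⟨g, hg⟩ := (Normal.minpoly_eq_iff_mem_orbit (AlgebraicClosure K)).1
          (minpoly.eq_of_root (Algebra.IsAlgebraic.isAlgebraic (c : AlgebraicClosure K)) hz)
        rw [← hg]
        first
        | exact hfix g i j
        | (have := congrArg g (hfix g.symm i j); simpa using this.symm)
      · rintro rfl
        exact ⟨minpoly.ne_zero (Algebra.IsIntegral.isIntegral _), minpoly.aeval _ _⟩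
    obtain ⟨e, y, hy⟩ := (minpoly.natSepDegree_eq_one_iff_pow_mem q).1 hsep
    refine ⟨e, ?_⟩
    have hyint : IsIntegral A y := by
      refine (isIntegral_algHom_iff (IsScalarTower.toAlgHom A K (AlgebraicClosure K))
        (algebraMap K (AlgebraicClosure K)).injective).1 ?_
      rw [IsScalarTower.coe_toAlgHom', hy]
      exact IsIntegral.pow c.2 _
    obtain ⟨a, ha⟩ := IsIntegrallyClosed.isIntegral_iff.1 hyint
    refine ⟨a, Subtype.ext ?_⟩
    rw [Subalgebra.coe_algebraMap, IsScalarTower.algebraMap_apply A K (AlgebraicClosure K), ha, hy]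
    rfl
  choose e he using hpow
  let N := (prodPoly A K b).support
  let e₀ := N.sup fun i => ((prodPoly A K b).coeff i).support.sup fun j => e i j
  refine ⟨e₀, fun i j => ?_⟩
  by_cases h : ((prodPoly A K b).coeff i).coeff j = 0
  · exact ⟨0, by rw [map_zero, h, zero_pow (expChar_pow_pos K q e₀).ne']⟩
  have hi : i ∈ N := mem_support_iff.2 fun h0 => h (by rw [h0, coeff_zero])
  have hle : e i j ≤ e₀ :=
    (Finset.le_sup (f := fun j => e i j) (mem_support_iff.2 h)).trans
      (Finset.le_sup (f := fun i => ((prodPoly A K b).coeff i).support.sup fun j => e i j) hi)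
  obtain ⟨a, ha⟩ := he i j
  refine ⟨a ^ q ^ (e₀ - e i j), ?_⟩
  rw [map_pow, ha, ← pow_mul, ← pow_add, Nat.add_sub_cancel' hle]

/-- Powers by the exponential characteristic of the base are injective in a field over it. -/
theorem frob_injective (R : Type*) {F : Type*} [CommRing R] [Field F] [Algebra R F] (q e : ℕ) [hR : ExpChar R q]
    {x y : F} (h : x ^ q ^ e = y ^ q ^ e) : x = y := by
  cases hR with
  | zero => simpa using h
  | prime hq =>
    haveI : CharP F q := (CharP.charP_iff_prime_eq_zero hq).2 (by
      rw [← map_natCast (algebraMap R F), CharP.cast_eq_zero, map_zero])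
    haveI : ExpChar F q := ExpChar.prime hq
    exact iterateFrobenius_inj F q e h

/-- A map from the integral closure is a reduction of one embedding, on finitely many elements. -/
theorem exists_embedding_finset {m : ℕ} (b : Fin m → integralClosure A L) :
    ∃ σ : L →ₐ[K] AlgebraicClosure K, ∀ i, r (res A K σ (b i)) = χ (b i) := by
  let q := ringExpChar K
  let Ab := integralClosure A (AlgebraicClosure K)
  haveI : ExpChar Ab q := by
    haveI : ExpChar (AlgebraicClosure K) q := expChar_of_injective_algebraMap
      (algebraMap K (AlgebraicClosure K)).injective q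
    exact (RingHom.expChar_iff Ab.val.toRingHom Subtype.val_injective q).2 inferInstance
  haveI : ExpChar A q := (RingHom.expChar_iff (algebraMap A K) (IsFractionRing.injective A K) q).2 inferInstance
  obtain ⟨e, he⟩ := exists_pow_mem A K b
  let N := q ^ e
  have hmem : prodPoly A K (fun i => b i ^ N) ∈ Polynomial.lifts (mapRingHom (algebraMap A Ab)) := by
    have hP : prodPoly A K (fun i => b i ^ N) =
        (prodPoly A K b).map (mapRingHom (iterateFrobenius Ab q e)) := by
      rw [prodPoly_map, prodPoly]
      refine Finset.prod_congr rfl fun σ _ => ?_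
      simp only [N, map_pow, iterateFrobenius_def]
      rfl
    rw [hP, Polynomial.lifts_iff_coeff_lifts]
    intro i
    have : ((prodPoly A K b).map (mapRingHom (iterateFrobenius Ab q e))).coeff i ∈
        Polynomial.lifts (algebraMap A Ab) := by
      rw [Polynomial.lifts_iff_coeff_lifts]
      intro j
      rw [coeff_map, coe_mapRingHom, coeff_map, iterateFrobenius_def]
      exact he i j
    obtain ⟨z, hz⟩ := this
    exact ⟨z, hz⟩
  obtain ⟨R, hR⟩ := hmem
  rw [coe_mapRingHom] at hR
  obtain ⟨σ₀⟩ : Nonempty (L →ₐ[K] AlgebraicClosure K) := ⟨IsAlgClosed.lift⟩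
  let θ : (integralClosure A L)[X] := gen fun i => b i ^ N
  let ev : (integralClosure A L)[X] := R.eval₂ (mapRingHom (algebraMap A (integralClosure A L))) θ
  have hev : ev = 0 := by
    have hinj : Function.Injective (res A K σ₀) := fun x y h =>
      Subtype.ext (σ₀.injective (congrArg Subtype.val h))
    apply Polynomial.map_injective (res A K σ₀).toRingHom hinj
    rw [Polynomial.map_zero, ← coe_mapRingHom, hom_eval₂, mapRingHom_comp, show (res A K σ₀).toRingHom.comp (algebraMap A (integralClosure A L)) = algebraMap A Ab from
        RingHom.ext fun a => (res A K σ₀).commutes a, ← eval_map, hR, coe_mapRingHom, map_gen, prodPoly, eval_prod]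
    exact Finset.prod_eq_zero (Finset.mem_univ σ₀) (by simp [θ])
  have hχ := congrArg (fun p => Polynomial.map χ.toRingHom p) hev
  simp only [Polynomial.map_zero] at hχ
  rw [← coe_mapRingHom, hom_eval₂, mapRingHom_comp,
    show χ.toRingHom.comp (algebraMap A (integralClosure A L)) = r.toRingHom.comp (algebraMap A Ab) from
      RingHom.ext fun a => (χ.commutes a).trans (r.commutes a).symm,
    ← mapRingHom_comp, ← eval₂_map, hR, eval₂_eq_eval_map, prodPoly_map, eval_prod,
    Finset.prod_eq_zero_iff] at hχ
  obtain ⟨σ, -, hσ⟩ := hχ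
  refine ⟨σ, fun i => ?_⟩
  rw [eval_sub, eval_X, eval_C, sub_eq_zero, coe_mapRingHom, map_gen] at hσ
  have h := (congrFun (gen_injective hσ) i).symm
  change r (res A K σ (b i ^ N)) = χ (b i ^ N) at h
  rw [map_pow, map_pow, map_pow] at h
  exact frob_injective A q e h

/-- A map from the integral closure is the reduction of an embedding. -/
theorem exists_embedding : ∃ σ : L →ₐ[K] AlgebraicClosure K, r.comp (res A K σ) = χ := by
  by_contra h
  push_neg at h
  have hb : ∀ σ : L →ₐ[K] AlgebraicClosure K, ∃ b, r (res A K σ b) ≠ χ b := fun σ => by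
    by_contra h'
    push_neg at h'
    exact h σ (AlgHom.ext h')
  choose b hb using hb
  obtain ⟨σ, hσ⟩ := exists_embedding_finset A K χ r (b ∘ (Fintype.equivFin _).symm)
  exact hb σ (by simpa using hσ (Fintype.equivFin _ σ))

omit χ r

variable {A K} {n : ℕ} (χs : Fin n → (integralClosure A L →ₐ[A] Ω)) (hχs : Function.Injective χs)
  (hn : n = Module.finrank K L)

include hχs hn in
/-- Traces of integral elements reduce to sums of values. -/
theorem exists_trace (b : integralClosure A L) :
    ∃ a : A, algebraMap A K a = Algebra.trace K L b ∧ algebraMap A Ω a = ∑ j, χs j b := by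
  obtain ⟨r⟩ := exists_reduction A K (Ω := Ω)
  choose σ hσ using fun j => exists_embedding A K (χs j) r
  have hσinj : Function.Injective σ := fun i j h => hχs (by rw [← hσ i, ← hσ j, h])
  have hemb : Nat.card (L →ₐ[K] AlgebraicClosure K) = Field.finSepDegree K L :=
    (Field.finSepDegree_eq_of_isAlgClosed K L (AlgebraicClosure K)).symm
  have hle : n ≤ Field.finSepDegree K L := by
    rw [← hemb, ← Nat.card_fin n]
    exact Nat.card_le_card_of_injective σ hσinj
  have hsd : Field.finSepDegree K L = Module.finrank K L :=
    le_antisymm (Field.finSepDegree_le_finrank K L) (hn ▸ hle)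
  haveI : Algebra.IsSeparable K L := (Field.finSepDegree_eq_finrank_iff K L).1 hsd
  have hσbij : Function.Bijective σ :=
    (Nat.bijective_iff_injective_and_card σ).2 ⟨hσinj, by rw [hemb, hsd, ← hn, Nat.card_fin]⟩
  have hint : IsIntegral A (Algebra.trace K L (b : L)) := Algebra.isIntegral_trace b.2
  obtain ⟨a, ha⟩ := IsIntegrallyClosed.isIntegral_iff.1 hint
  refine ⟨a, ha, ?_⟩
  have hsum : algebraMap A (integralClosure A (AlgebraicClosure K)) a = ∑ j, res A K (σ j) b := by
    apply Subtype.ext
    rw [Subalgebra.coe_algebraMap, IsScalarTower.algebraMap_apply A K (AlgebraicClosure K), ha,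
      trace_eq_sum_embeddings, AddSubmonoidClass.coe_finsetSum]
    exact (hσbij.sum_comp fun τ : L →ₐ[K] AlgebraicClosure K => τ b).symm
  rw [← r.commutes a, hsum, map_sum]
  exact Finset.sum_congr rfl fun j _ => DFunLike.congr_fun (hσ j) b

include hχs in
/-- Distinct characters are detected by a determinant. -/
theorem exists_det_ne_zero :
    ∃ b : Fin n → integralClosure A L, (Matrix.of fun i j => χs j (b i)).det ≠ 0 := by
  classical
  let v : integralClosure A L → (Fin n → Ω) := fun x j => χs j x
  have hspan : Submodule.span Ω (Set.range v) = ⊤ := by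
    by_contra hne
    obtain ⟨f, hf, hle⟩ := Submodule.exists_le_ker_of_lt_top _ (lt_top_iff_ne_top.2 hne)
    have hli : LinearIndependent Ω (fun j : Fin n => (χs j : integralClosure A L → Ω)) :=
      (linearIndependent_monoidHom (integralClosure A L) Ω).comp
        (fun j => (χs j : integralClosure A L →* Ω))
        (fun i j h => hχs (AlgHom.ext fun x => DFunLike.congr_fun h x))
    refine hf ((Pi.basisFun Ω (Fin n)).ext fun j => ?_)
    have hzero := Fintype.linearIndependent_iff.1 hli (fun j => f (Pi.basisFun Ω (Fin n) j)) (by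
      funext x
      have hx : f (v x) = 0 := hle (Submodule.subset_span ⟨x, rfl⟩)
      rw [← (Pi.basisFun Ω (Fin n)).sum_repr (v x), map_sum] at hx
      simpa [Finset.sum_apply, v, mul_comm] using hx) j
    simpa using hzero
  obtain ⟨t, ht, hts, htli⟩ := exists_linearIndependent Ω (Set.range v)
  rw [hspan] at hts
  let bt := Module.Basis.mk htli (by rw [Subtype.range_coe, hts])
  haveI : Fintype t := FiniteDimensional.fintypeBasisIndex bt
  let e : Fin n ≃ t := (Fintype.equivFinOfCardEq (by
    rw [← Module.finrank_eq_card_basis bt, Module.finrank_fin_fun])).symm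
  choose b hb using fun i => ht (e i).2
  refine ⟨b, fun h => ?_⟩
  have hli : LinearIndependent Ω (Matrix.of fun i j => χs j (b i)).row := by
    have : (fun i => v (b i)) = fun i => ((e i : t) : Fin n → Ω) := funext hb
    show LinearIndependent Ω (fun i => v (b i))
    rw [this]
    exact htli.comp e e.injective
  exact (Matrix.linearIndependent_rows_iff_isUnit.1 hli |> (Matrix.isUnit_iff_isUnit_det _).1).ne_zero h

include hχs hn in
/-- The integral closure becomes finite etale near the point. -/
theorem exists_etale_away :
    ∃ d : A, algebraMap A Ω d ≠ 0 ∧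
      Module.Finite (Localization.Away d) (Localization.Away d ⊗[A] integralClosure A L) ∧
      Algebra.Etale (Localization.Away d) (Localization.Away d ⊗[A] integralClosure A L) := by
  classical
  obtain ⟨b, hb⟩ := exists_det_ne_zero χs hχs
  choose τ hτK hτΩ using exists_trace χs hχs hn
  have hτadd : ∀ x y, τ (x + y) = τ x + τ y := fun x y => IsFractionRing.injective A K (by
    simp only [map_add, hτK, Subalgebra.coe_add])
  have hτsmul : ∀ (c : A) x, τ (c • x) = c * τ x := fun c x => IsFractionRing.injective A K (by
    rw [map_mul, hτK, hτK, Subalgebra.coe_smul, ← IsScalarTower.algebraMap_smul K c (x : L),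
      map_smul, smul_eq_mul])
  let G : Matrix (Fin n) (Fin n) A := Matrix.of fun i k => τ (b i * b k)
  let d := G.det
  have hdΩ : algebraMap A Ω d ≠ 0 := by
    have hG : G.map (algebraMap A Ω) = (Matrix.of fun i j => χs j (b i)) *
        (Matrix.of fun i j => χs j (b i)).transpose := by
      ext i k
      simp [G, hτΩ, Matrix.mul_apply]
    rw [RingHom.map_det, RingHom.mapMatrix_apply, hG, Matrix.det_mul, Matrix.det_transpose]
    exact mul_ne_zero hb hb
  have hd : d ≠ 0 := fun h => hdΩ (by rw [h, map_zero])
  let bK : Fin n → L := fun i => b i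
  have hdiscr : Algebra.discr K bK = algebraMap A K d := by
    rw [Algebra.discr_def, RingHom.map_det]
    congr 1
    ext i k
    simp [G, hτK, bK, Algebra.traceMatrix_apply, Algebra.traceForm_apply]
  have hliK : LinearIndependent K bK := by
    by_contra h
    have := Algebra.discr_zero_of_not_linearIndependent K h
    rw [hdiscr, map_eq_zero_iff _ (IsFractionRing.injective A K)] at this
    exact hd this
  haveI : Nonempty (Fin n) := ⟨⟨0, hn ▸ Module.finrank_pos⟩⟩
  let bL : Module.Basis (Fin n) K L :=
    basisOfLinearIndependentOfCardEqFinrank hliK (by rw [Fintype.card_fin, hn])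
  have hspan : ∀ x : integralClosure A L, d • x ∈ Submodule.span A (Set.range b) := by
    intro x
    let w : Fin n → A := fun k => τ (x * b k)
    let c : Fin n → A := Matrix.mulVec G.adjugate w
    have hc : d • x = ∑ i, c i • b i := by
      apply Subtype.ext
      obtain ⟨cf, hx⟩ : ∃ cf : Fin n → K, (x : L) = ∑ i, cf i • bK i :=
        ⟨fun i => bL.repr x i, by
          conv_lhs => rw [← bL.sum_repr (x : L)]
          simp [bL, bK]⟩
      have hGsymm : ∀ i k, G i k = G k i := fun i k => by simp [G, mul_comm]
      have hw : (fun k => algebraMap A K (w k)) =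
          Matrix.mulVec (G.map (algebraMap A K)) (cf) := by
        funext k
        show algebraMap A K (τ (x * b k)) = ∑ i, algebraMap A K (G k i) * cf i
        rw [hτK, Subalgebra.coe_mul, hx, Finset.sum_mul, map_sum]
        refine Finset.sum_congr rfl fun i _ => ?_
        rw [smul_mul_assoc, map_smul, smul_eq_mul, mul_comm, hGsymm k i]
        simp [G, hτK, bK]
      have hcK : (fun i => algebraMap A K (c i)) = algebraMap A K d • cf := by
        funext i
        rw [RingHom.map_mulVec, ← RingHom.mapMatrix_apply, RingHom.map_adjugate, RingHom.mapMatrix_apply]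
        show (Matrix.mulVec _ ((fun k => algebraMap A K (w k)))) i = _
        rw [hw, Matrix.mulVec_mulVec, Matrix.adjugate_mul]
        simp [RingHom.map_det, d, Matrix.smul_mulVec]
      rw [Subalgebra.coe_smul, AddSubmonoidClass.coe_finsetSum]
      simp only [Subalgebra.coe_smul]
      rw [← IsScalarTower.algebraMap_smul K d (x : L)]
      conv_lhs => rw [hx, Finset.smul_sum]
      refine Finset.sum_congr rfl fun i _ => ?_
      rw [← IsScalarTower.algebraMap_smul K (c i) (b i : L), congrFun hcK i, Pi.smul_apply,
        smul_smul, smul_eq_mul]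
    rw [hc]
    exact Submodule.sum_mem _ fun i _ => Submodule.smul_mem _ _ (Submodule.subset_span ⟨i, rfl⟩)
  let R := Localization.Away d
  let B := integralClosure A L
  let v : Fin n → R ⊗[A] B := fun i => (1 : R) ⊗ₜ[A] b i
  have hdu : IsUnit (algebraMap A R d) := IsLocalization.Away.algebraMap_isUnit d
  have hsp : ⊤ ≤ Submodule.span R (Set.range v) := by
    rintro z -
    induction z using TensorProduct.induction_on with
    | zero => exact zero_mem _
    | add z z' hz hz' => exact add_mem hz hz'
    | tmul c x =>
      have hx : (1 : R) ⊗ₜ[A] (d • x) ∈ Submodule.span R (Set.range v) := by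
        refine Submodule.span_induction (p := fun y _ => (1 : R) ⊗ₜ[A] y ∈ Submodule.span R (Set.range v))
          ?_ ?_ ?_ ?_ (hspan x)
        · rintro _ ⟨i, rfl⟩; exact Submodule.subset_span ⟨i, rfl⟩
        · simp
        · intro y y' _ _ hy hy'; rw [TensorProduct.tmul_add]; exact add_mem hy hy'
        · intro a y _ hy
          rw [TensorProduct.tmul_smul]
          exact Submodule.smul_of_tower_mem _ a hy
      have : c ⊗ₜ[A] x = (c * (hdu.unit⁻¹ : Rˣ)) • ((1 : R) ⊗ₜ[A] (d • x)) := by
        rw [TensorProduct.smul_tmul', smul_eq_mul, mul_one, ← TensorProduct.smul_tmul, Algebra.smul_def,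
          mul_left_comm, IsUnit.mul_val_inv, mul_one]
      rw [this]
      exact Submodule.smul_mem _ _ hx
  let τl : B →ₗ[A] A := { toFun := τ, map_add' := hτadd, map_smul' := hτsmul }
  let Ψ : Fin n → (R ⊗[A] B →ₗ[R] R) := fun k =>
    (TensorProduct.AlgebraTensorModule.rid A R R).toLinearMap ∘ₗ
      LinearMap.baseChange R (τl ∘ₗ LinearMap.mulRight A (b k))
  have hΨ : ∀ i k, Ψ k (v i) = algebraMap A R (G i k) := fun i k => by
    simp [Ψ, v, τl, G, Algebra.smul_def]
  have hGR : IsUnit (G.map (algebraMap A R)).det := by
    rw [← RingHom.mapMatrix_apply, ← RingHom.map_det]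
    exact hdu
  have hli : LinearIndependent R v := by
    rw [Fintype.linearIndependent_iff]
    intro g hg
    have h : Matrix.vecMul g (G.map (algebraMap A R)) = 0 := by
      funext k
      have := congrArg (Ψ k) hg
      simpa [Matrix.vecMul, dotProduct, hΨ] using this
    refine congrFun ((Matrix.vecMul_injective_of_isUnit ((Matrix.isUnit_iff_isUnit_det _).2 hGR)) ?_)
    exact h.trans (Matrix.zero_vecMul _).symm
  let bR : Module.Basis (Fin n) R (R ⊗[A] B) := Module.Basis.mk hli hsp
  haveI hfin : Module.Finite R (R ⊗[A] B) := Module.Finite.of_basis bR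
  haveI : Module.Free R (R ⊗[A] B) := Module.Free.of_basis bR
  refine ⟨d, hdΩ, hfin, ?_⟩
  rw [Groth.Misc1.ND.etale_iff_isUnit_discr bR, Algebra.discr_def]
  let ι : R →ₐ[A] K := IsLocalization.liftAlgHom (M := Submonoid.powers d) (f := Algebra.ofId A K)
    fun ⟨_, m, hm⟩ => by
      subst hm
      exact isUnit_iff_ne_zero.2 (by
        show algebraMap A K (d ^ m) ≠ 0
        rw [map_pow]
        exact pow_ne_zero _ fun h => hd (IsFractionRing.injective A K (h.trans (map_zero _).symm)))
  have hι : Function.Injective ι := by
    rw [injective_iff_map_eq_zero]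
    intro z hz
    obtain ⟨a, s, rfl⟩ := IsLocalization.exists_mk'_eq (Submonoid.powers d) z
    have h := congrArg ι (IsLocalization.mk'_spec R a s)
    rw [map_mul, hz, zero_mul, AlgHom.commutes, eq_comm, map_eq_zero_iff _ (IsFractionRing.injective A K)] at h
    rw [h, IsLocalization.mk'_zero]
  let φ : R ⊗[A] B →ₐ[A] L :=
    Algebra.TensorProduct.lift ((IsScalarTower.toAlgHom A K L).comp ι) B.val fun _ _ => Commute.all _ _
  have hφv : ∀ i, φ (v i) = bL i := fun i => by simp [φ, v, bL, bK]
  have hrepr : ∀ (z : R ⊗[A] B) i, bL.repr (φ z) i = ι (bR.repr z i) := by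
    intro z i
    have hz : φ z = ∑ j, ι (bR.repr z j) • bL j := by
      conv_lhs => rw [← bR.sum_repr z]
      rw [map_sum]
      refine Finset.sum_congr rfl fun j _ => ?_
      rw [show bR j = v j from Module.Basis.mk_apply _ _ j]
      simp [φ, v, bL, bK, TensorProduct.smul_tmul', Algebra.smul_def]
    rw [hz, bL.repr_sum_self]
  have htr : Algebra.traceMatrix R bR = G.map (algebraMap A R) := by
    ext i k
    apply hι
    rw [Algebra.traceMatrix_apply, Algebra.traceForm_apply, Algebra.trace_eq_matrix_trace bR,
      Matrix.map_apply, AlgHom.commutes, show G i k = τ (b i * b k) from rfl, hτK, Algebra.trace_eq_matrix_trace bL, Matrix.trace, Matrix.trace,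
      map_sum]
    refine Finset.sum_congr rfl fun j _ => ?_
    rw [Matrix.diag_apply, Matrix.diag_apply, Algebra.leftMulMatrix_eq_repr_mul,
      Algebra.leftMulMatrix_eq_repr_mul, ← hrepr]
    simp only [bR, Module.Basis.mk_apply, map_mul φ, hφv]
    simp [bL, bK]
  rw [htr]
  exact hGR

end Groth.NormCard
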